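import Groth.Agent.L13.HartogsFF.Algebra
import Groth.Agent.L22.LocalDim
import Mathlib.AlgebraicGeometry.Morphisms.Finite
import Mathlib.AlgebraicGeometry.Morphisms.Flat
import Mathlib.AlgebraicGeometry.Noetherian
import Mathlib.RingTheory.Flat.EquationalCriterion
import Mathlib.RingTheory.Noetherian.Basic

/-!
For `f : G ⟶ S` finite flat and `U ⊆ S` with complement of depth at least two, sections over the
preimage of an affine open extend uniquely from the preimage of its intersection with `U`.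
-/

universe u

open CategoryTheory AlgebraicGeometry TopologicalSpace Opposite

namespace Groth.L13.HartogsFF

variable {S G : Scheme.{u}} [IsNoetherian S] (f : G ⟶ S) [IsFinite f] [Flat f] (U : S.Opens)

theorem res_res {X : Scheme.{u}} {W₁ W₂ W₃ : X.Opens} (h₂ : W₂ ≤ W₁) (h₃ : W₃ ≤ W₂) (s : Γ(X, W₁)) :
    X.presheaf.map (homOfLE h₃).op (X.presheaf.map (homOfLE h₂).op s) =
      X.presheaf.map (homOfLE (h₃.trans h₂)).op s := by
  rw [← ConcreteCategory.comp_apply, ← Functor.map_comp]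
  rfl

theorem res_bijective (hU : ∀ s : S, s ∉ U → (2 : ℕ∞) ≤ LocCoh.depth (S.presheaf.stalk s) (S.presheaf.stalk s))
    {V : S.Opens} (hV : IsAffineOpen V) :
    Function.Bijective (G.presheaf.map
      (homOfLE (f.preimage_mono (inf_le_left : V ⊓ U ≤ V))).op) := by
  haveI : IsNoetherianRing Γ(S, V) := IsLocallyNoetherian.component_noetherian ⟨V, hV⟩
  haveI : IsLocallyNoetherian G := LocallyOfFiniteType.isLocallyNoetherian f
  haveI : CompactSpace G := QuasiCompact.compactSpace_of_compactSpace f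
  haveI : IsNoetherian G := {}
  have hW : IsAffineOpen (f ⁻¹ᵁ V) := hV.preimage f
  letI : Algebra Γ(S, V) Γ(G, f ⁻¹ᵁ V) := (f.app V).hom.toAlgebra
  haveI : Module.Finite Γ(S, V) Γ(G, f ⁻¹ᵁ V) := f.finite_app V hV
  haveI : Module.Flat Γ(S, V) Γ(G, f ⁻¹ᵁ V) := by
    have h : (f.appLE V (f ⁻¹ᵁ V) le_rfl).hom.Flat := f.flat_appLE hV hW le_rfl
    rw [Scheme.Hom.appLE_eq_app] at h
    exact h
  haveI : Module.FinitePresentation Γ(S, V) Γ(G, f ⁻¹ᵁ V) :=
    Module.finitePresentation_of_finite _ _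
  haveI : Module.Projective Γ(S, V) Γ(G, f ⁻¹ᵁ V) := Module.Flat.projective_of_finitePresentation
  let ρ : Γ(G, f ⁻¹ᵁ V) →+* Γ(G, f ⁻¹ᵁ (V ⊓ U)) :=
    (G.presheaf.map (homOfLE (f.preimage_mono (inf_le_left : V ⊓ U ≤ V))).op).hom
  let Z : Set (PrimeSpectrum Γ(S, V)) := {p | hV.fromSpec p ∉ U}
  have hZup : ∀ p q : PrimeSpectrum Γ(S, V), p ∈ Z → p.asIdeal ≤ q.asIdeal → q ∈ Z :=
    fun p q hp hpq hq => hp ((L22.LocalDim.fromSpec_specializes hV hpq).mem_open U.2 hq)
  have hd : DepthTwo Z := by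
    intro p hp
    have hmem : hV.fromSpec p ∈ V := L22.LocalDim.fromSpec_mem hV p
    letI : Algebra Γ(S, V) (S.presheaf.stalk (hV.fromSpec p)) :=
      TopCat.Presheaf.algebra_section_stalk S.presheaf ⟨hV.fromSpec p, hmem⟩
    have hloc := hV.isLocalization_stalk ⟨hV.fromSpec p, hmem⟩
    rw [L22.LocalDim.primeIdealOf_fromSpec hV p hmem] at hloc
    exact ⟨_, inferInstance, inferInstance, hloc, inferInstance, hU _ hp⟩
  -- basic opens inside `U`
  have hbasic : ∀ p : PrimeSpectrum Γ(S, V), p ∉ Z →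
      ∃ g : Γ(S, V), g ∉ p.asIdeal ∧ S.basicOpen g ≤ V ⊓ U := by
    intro p hp
    have hmem : hV.fromSpec p ∈ V := L22.LocalDim.fromSpec_mem hV p
    obtain ⟨g, hgle, hgp⟩ := hV.exists_basicOpen_le (V := V ⊓ U)
      ⟨hV.fromSpec p, hmem, not_not.1 hp⟩ hmem
    rw [L22.LocalDim.mem_basicOpen_iff hV hmem, L22.LocalDim.primeIdealOf_fromSpec hV p hmem] at hgp
    exact ⟨g, hgp, hgle⟩
  have hinj : Function.Injective ρ := by
    refine (injective_iff_map_eq_zero ρ).2 fun b hb => ?_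
    let J : Ideal Γ(S, V) := LinearMap.ker (LinearMap.toSpanSingleton Γ(S, V) _ b)
    refine eq_zero_of_killed hd hZup (b := b) (J := J) (fun p hJ => ?_) fun y hy => hy
    by_contra hp
    obtain ⟨g, hgp, hgle⟩ := hbasic p hp
    have hle : G.basicOpen (f.app V g) ≤ f ⁻¹ᵁ (V ⊓ U) := by
      rw [← Scheme.preimage_basicOpen]
      exact f.preimage_mono hgle
    obtain ⟨n, hn⟩ := exists_pow_mul_eq_zero_of_res_basicOpen_eq_zero_of_isCompact G hW.isCompact b
      (f.app V g) (by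
        show G.presheaf.map (homOfLE (G.basicOpen_le _)).op b = 0
        rw [← res_res (f.preimage_mono inf_le_left) hle]
        show G.presheaf.map _ (ρ b) = 0
        rw [hb, map_zero])
    refine hgp (p.2.mem_of_pow_mem n (hJ ?_))
    show g ^ n • b = 0
    rw [Algebra.smul_def, map_pow]
    exact hn
  refine ⟨hinj, fun s => ?_⟩
  show s ∈ ρ.range
  have hsep : ∀ (z : Γ(G, f ⁻¹ᵁ (V ⊓ U))) (J : Ideal Γ(S, V)),
      (∀ p : PrimeSpectrum Γ(S, V), J ≤ p.asIdeal → p ∈ Z) →
      (∀ y ∈ J, ρ (algebraMap Γ(S, V) Γ(G, f ⁻¹ᵁ V) y) * z = 0) → z = 0 := by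
    intro z J hJ hz
    refine TopCat.Sheaf.eq_of_locally_eq' G.sheaf
      (fun y : J => f ⁻¹ᵁ (V ⊓ U) ⊓ G.basicOpen (f.app V y.1)) (f ⁻¹ᵁ (V ⊓ U))
      (fun y => homOfLE inf_le_left) ?_ z 0 fun y => ?_
    · intro w hw
      have hwV : f w ∈ V := hw.1
      obtain ⟨y, hy, hyw⟩ : ∃ y ∈ J, y ∉ (hV.primeIdealOf ⟨f w, hwV⟩).asIdeal := by
        by_contra! h
        have := hJ _ h
        exact this (by rw [L22.LocalDim.fromSpec_prime hV hwV]; exact hw.2)
      rw [Opens.mem_iSup]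
      refine ⟨⟨y, hy⟩, hw, ?_⟩
      rw [← Scheme.preimage_basicOpen]
      exact (L22.LocalDim.mem_basicOpen_iff hV hwV y).2 hyw
    · have hu : IsUnit (G.presheaf.map (homOfLE
          (inf_le_left : f ⁻¹ᵁ (V ⊓ U) ⊓ G.basicOpen (f.app V y.1) ≤ _)).op
          (ρ (f.app V y.1))) := by
        show IsUnit (G.presheaf.map _ (G.presheaf.map _ (f.app V y.1)))
        rw [res_res, ← res_res (G.basicOpen_le (f.app V y.1))
          (inf_le_right : f ⁻¹ᵁ (V ⊓ U) ⊓ G.basicOpen (f.app V y.1) ≤ _)]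
        exact IsUnit.map (G.presheaf.map _).hom (RingedSpace.isUnit_res_basicOpen _ (f.app V y.1))
      refine (hu.mul_right_eq_zero.1 ?_).trans (map_zero _).symm
      show G.presheaf.map _ (ρ (f.app V y.1)) * G.presheaf.map _ z = 0
      rw [← map_mul]
      exact (congrArg _ (hz y.1 y.2)).trans (map_zero _)
  let I : Ideal Γ(S, V) :=
    { carrier := {y | ρ (algebraMap Γ(S, V) Γ(G, f ⁻¹ᵁ V) y) * s ∈ ρ.range}
      add_mem' := fun {a b} ha hb => by
        show _ * s ∈ ρ.range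
        rw [map_add, map_add, add_mul]; exact add_mem ha hb
      zero_mem' := by
        show _ * s ∈ ρ.range
        rw [map_zero, map_zero, zero_mul]; exact zero_mem _
      smul_mem' := fun a b hb => by
        show _ * s ∈ ρ.range
        rw [smul_eq_mul, map_mul, map_mul, mul_assoc]; exact mul_mem ⟨_, rfl⟩ hb }
  refine mem_range hd hZup ρ hinj hsep s I (fun y hy => hy) fun p hI => ?_
  by_contra hp
  obtain ⟨g, hgp, hgle⟩ := hbasic p hp
  have hle : G.basicOpen (f.app V g) ≤ f ⁻¹ᵁ (V ⊓ U) := by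
    rw [← Scheme.preimage_basicOpen]
    exact f.preimage_mono hgle
  haveI := hW.isLocalization_basicOpen (f.app V g)
  obtain ⟨n, b, hb⟩ := IsLocalization.Away.surj (f.app V g)
    (G.presheaf.map (homOfLE hle).op s)
  simp only [RingHom.algebraMap_toAlgebra] at hb
  change _ * G.presheaf.map (homOfLE (G.basicOpen_le (f.app V g))).op (f.app V g) ^ n =
    G.presheaf.map (homOfLE (G.basicOpen_le (f.app V g))).op b at hb
  have hbo : G.basicOpen (ρ (f.app V g)) ≤ G.basicOpen (f.app V g) := by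
    show G.basicOpen (G.presheaf.map _ (f.app V g)) ≤ _
    rw [Scheme.basicOpen_res]
    exact inf_le_right
  obtain ⟨m, hm⟩ := exists_pow_mul_eq_zero_of_res_basicOpen_eq_zero_of_isCompact G
    (NoetherianSpace.isCompact _) (ρ (f.app V g) ^ n * s - ρ b) (ρ (f.app V g)) (by
      show G.presheaf.map (homOfLE (G.basicOpen_le _)).op (ρ (f.app V g) ^ n * s - ρ b) = 0
      rw [map_sub, map_mul, map_pow, sub_eq_zero]
      show G.presheaf.map _ (G.presheaf.map _ (f.app V g)) ^ n * G.presheaf.map _ s =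
        G.presheaf.map _ (G.presheaf.map _ b)
      rw [res_res, res_res, ← res_res hle hbo, ← res_res (G.basicOpen_le (f.app V g)) hbo,
        ← res_res (G.basicOpen_le (f.app V g)) hbo, ← map_pow, ← map_mul, mul_comm]
      exact congrArg _ hb)
  refine hgp (p.2.mem_of_pow_mem (m + n) (hI (show _ * s ∈ ρ.range from ⟨f.app V g ^ m * b, ?_⟩)))
  rw [mul_sub, sub_eq_zero, ← mul_assoc, ← pow_add] at hm
  rw [map_mul, map_pow, map_pow, map_pow]
  exact hm.symm

end Groth.L13.HartogsFF
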