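import Groth.Agent.L01.Serre
import Mathlib.RingTheory.Ideal.AssociatedPrime.Finiteness
import Mathlib.RingTheory.Ideal.AssociatedPrime.Basic
import Mathlib.RingTheory.Localization.AtPrime.Basic
import Mathlib.LinearAlgebra.FreeModule.Basic
import Mathlib.Algebra.Module.Projective

/-!
Hartogs extension for projective modules across a closed set of depth at least two, in ring
language.
-/

universe u

namespace Groth.L13.HartogsFF

variable {A B S : Type u} [CommRing A] [IsNoetherianRing A] [CommRing B] [Algebra A B] [CommRing S]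

/-- Every prime in `Z` has a local ring of depth at least two. -/
def DepthTwo (Z : Set (PrimeSpectrum A)) : Prop :=
  ∀ p ∈ Z, ∃ (L : Type u) (_ : CommRing L) (_ : Algebra A L)
    (_ : IsLocalization.AtPrime L p.asIdeal) (_ : IsLocalRing L), 2 ≤ LocCoh.depth L L

theorem exists_dual_ne_zero [Module.Projective A B] {b : B} (hb : b ≠ 0) :
    ∃ φ : B →ₗ[A] A, φ b ≠ 0 := by
  obtain ⟨s, hs⟩ := Module.projective_def.1 ‹Module.Projective A B›
  by_contra! h
  refine hb ?_
  have : s b = 0 := Finsupp.ext fun i => h ((Finsupp.lapply i) ∘ₗ s)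
  have h2 := hs b
  rw [this, map_zero] at h2
  exact h2.symm

theorem mem_smul_of_forall_dual [Module.Projective A B] {b : B} {x : A}
    (h : ∀ φ : B →ₗ[A] A, φ b ∈ Ideal.span {x}) : ∃ c : B, b = x • c := by
  obtain ⟨s, hs⟩ := Module.projective_def.1 ‹Module.Projective A B›
  have h' : ∀ i, ∃ a, s b i = a * x := fun i => by
    obtain ⟨a, ha⟩ := Ideal.mem_span_singleton'.1 (h ((Finsupp.lapply i) ∘ₗ s))
    exact ⟨a, ha.symm⟩
  choose a ha using h'
  refine ⟨∑ i ∈ (s b).support, a i • i, ?_⟩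
  rw [Finset.smul_sum]
  conv_lhs => rw [← hs b, Finsupp.linearCombination_apply, Finsupp.sum]
  refine Finset.sum_congr rfl fun i _ => ?_
  rw [ha i, id, mul_comm, mul_smul]

variable {Z : Set (PrimeSpectrum A)} (hd : DepthTwo Z)
  (hZup : ∀ p q : PrimeSpectrum A, p ∈ Z → p.asIdeal ≤ q.asIdeal → q ∈ Z)

include hd in
theorem ann_ne_of_mem {p : PrimeSpectrum A} (hp : p ∈ Z) {a : A}
    (hann : ∀ y : A, y * a = 0 ↔ y ∈ p.asIdeal) : False := by
  obtain ⟨L, _, _, _, _, hL⟩ := hd p hp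
  have hne : algebraMap A L a ≠ 0 := by
    rw [Ne, IsLocalization.map_eq_zero_iff p.asIdeal.primeCompl L]
    rintro ⟨⟨t, ht⟩, hta⟩
    exact ht ((hann t).1 hta)
  have h0 : LocCoh.depth L L = 0 := by
    refine L01.depth_eq_zero_of_smul_eq_zero hne fun x hx => ?_
    obtain ⟨⟨r, t⟩, hrt⟩ := IsLocalization.surj p.asIdeal.primeCompl x
    have hrp : r ∈ p.asIdeal := by
      rw [← IsLocalization.AtPrime.to_map_mem_maximal_iff L p.asIdeal r, ← hrt]
      exact Ideal.mul_mem_right _ _ hx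
    have hunit : IsUnit (algebraMap A L (t : A)) := IsLocalization.map_units L t
    rw [smul_eq_mul, ← hunit.mul_left_eq_zero, mul_comm x, mul_assoc, hrt, ← map_mul, mul_comm,
      (hann r).2 hrp, map_zero]
  rw [h0] at hL
  exact absurd hL (by simp)

include hd in
theorem colon_ne_of_mem {p : PrimeSpectrum A} (hp : p ∈ Z) {x c : A}
    (hx : ∀ a, x * a = 0 → a = 0) (hann : ∀ y : A, y * c ∈ Ideal.span {x} ↔ y ∈ p.asIdeal) :
    False := by
  obtain ⟨L, _, _, _, _, hL⟩ := hd p hp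
  refine L01.Serre.not_bad_of_two_le_depth hL ⟨algebraMap A L x, algebraMap A L c, ?_, ?_, ?_⟩
  · intro w hw
    obtain ⟨⟨r, t⟩, hrt⟩ := IsLocalization.surj p.asIdeal.primeCompl w
    have hunit : IsUnit (algebraMap A L (t : A)) := IsLocalization.map_units L t
    have h1 : algebraMap A L (x * r) = 0 := by rw [map_mul, ← hrt, ← mul_assoc, hw, zero_mul]
    obtain ⟨⟨u, hu⟩, hux⟩ := (IsLocalization.map_eq_zero_iff p.asIdeal.primeCompl L _).1 h1
    have h2 : u * r = 0 := hx _ (by rw [← hux]; ring)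
    have h3 : algebraMap A L r = 0 :=
      (IsLocalization.map_eq_zero_iff p.asIdeal.primeCompl L _).2 ⟨⟨u, hu⟩, h2⟩
    rw [h3] at hrt
    exact hunit.mul_left_eq_zero.1 hrt
  · intro hmem
    obtain ⟨q, hq⟩ := Ideal.mem_span_singleton'.1 hmem
    obtain ⟨⟨r, t⟩, hrt⟩ := IsLocalization.surj p.asIdeal.primeCompl q
    have h1 : algebraMap A L ((t : A) * c) = algebraMap A L (r * x) := by
      rw [map_mul, map_mul, ← hrt, ← hq]; ring
    obtain ⟨⟨u, hu⟩, hux⟩ := (IsLocalization.eq_iff_exists p.asIdeal.primeCompl L).1 h1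
    refine p.asIdeal.primeCompl.mul_mem hu t.2 ((hann _).1 ?_)
    rw [mul_assoc, hux]
    exact Ideal.mul_mem_left _ _ (Ideal.mul_mem_left _ _ (Ideal.subset_span rfl))
  · intro w hw
    obtain ⟨⟨r, t⟩, hrt⟩ := IsLocalization.surj p.asIdeal.primeCompl w
    have hrp : r ∈ p.asIdeal := by
      rw [← IsLocalization.AtPrime.to_map_mem_maximal_iff L p.asIdeal r, ← hrt]
      exact Ideal.mul_mem_right _ _ hw
    have hunit : IsUnit (algebraMap A L (t : A)) := IsLocalization.map_units L t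
    rw [← Ideal.unit_mul_mem_iff_mem _ hunit, ← mul_assoc, mul_comm (algebraMap A L (t : A)) w, hrt,
      ← map_mul]
    obtain ⟨e, he⟩ := Ideal.mem_span_singleton'.1 ((hann r).2 hrp)
    rw [← he, map_mul]
    exact Ideal.mul_mem_left _ _ (Ideal.subset_span rfl)

include hd hZup in
/-- An element killed by an ideal supported in `Z` vanishes. -/
theorem eq_zero_of_killed [Module.Projective A B] {b : B} {J : Ideal A}
    (hJ : ∀ p : PrimeSpectrum A, J ≤ p.asIdeal → p ∈ Z) (hb : ∀ y ∈ J, y • b = 0) : b = 0 := by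
  by_contra hne
  obtain ⟨φ, hφ⟩ := exists_dual_ne_zero (A := A) hne
  obtain ⟨p, hp, hle⟩ := exists_le_isAssociatedPrime_of_isNoetherianRing A (φ b) hφ
  obtain ⟨hpp, r, hr⟩ := isAssociatedPrime_iff.1 hp
  have hmem : ∀ y, y * r = 0 ↔ y ∈ p := fun y => by
    rw [hr, Submodule.mem_colon_singleton, Submodule.mem_bot, smul_eq_mul]
  refine ann_ne_of_mem hd (p := ⟨p, hpp⟩) (hJ _ fun y hy => hle ?_) hmem
  rw [Submodule.mem_colon_singleton, Submodule.mem_bot, ← map_smul, hb y hy, map_zero]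

include hd hZup in
theorem exists_regular_mem {p : PrimeSpectrum A} (hp : p ∈ Z) :
    ∃ x ∈ p.asIdeal, ∀ a : A, x * a = 0 → a = 0 := by
  by_contra! h
  have hsub : (p.asIdeal : Set A) ⊆ ⋃ q ∈ associatedPrimes A A, (q : Set A) := by
    rw [biUnion_associatedPrimes_eq_zero_divisors]
    intro x hx
    obtain ⟨a, ha, ha0⟩ := h x hx
    exact ⟨a, ha0, ha⟩
  obtain ⟨q, hq, hpq⟩ := (Ideal.subset_union_prime_finite (associatedPrimes.finite A A) ⊥ ⊥
    (fun q hq _ _ => hq.isPrime)).1 hsub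
  obtain ⟨hqp, r, hr⟩ := isAssociatedPrime_iff.1 hq
  exact ann_ne_of_mem hd (p := ⟨q, hqp⟩) (hZup p _ hp hpq) (a := r) fun y => by
    show y * r = 0 ↔ y ∈ q
    rw [hr, Submodule.mem_colon_singleton, Submodule.mem_bot, smul_eq_mul]

include hd hZup in
/-- Hartogs: an element of `S` which becomes integral after multiplying by an ideal supported in
`Z` is integral. -/
theorem mem_range [Module.Projective A B] (ρ : B →+* S) (hρ : Function.Injective ρ)
    (hsep : ∀ (z : S) (J : Ideal A), (∀ p : PrimeSpectrum A, J ≤ p.asIdeal → p ∈ Z) →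
      (∀ y ∈ J, ρ (algebraMap A B y) * z = 0) → z = 0)
    (s : S) (I : Ideal A) (hIs : ∀ y ∈ I, ρ (algebraMap A B y) * s ∈ ρ.range)
    (hI : ∀ p : PrimeSpectrum A, I ≤ p.asIdeal → p ∈ Z) : s ∈ ρ.range := by
  classical
  let σ : A →+* S := ρ.comp (algebraMap A B)
  let I' : Ideal A :=
    { carrier := {y | σ y * s ∈ ρ.range}
      add_mem' := fun {a b} ha hb => by
        show σ (a + b) * s ∈ ρ.range
        rw [map_add, add_mul]; exact add_mem ha hb
      zero_mem' := by
        show σ 0 * s ∈ ρ.range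
        rw [map_zero, zero_mul]; exact zero_mem _
      smul_mem' := fun a b hb => by
        show σ (a • b) * s ∈ ρ.range
        rw [smul_eq_mul, map_mul, mul_assoc]; exact mul_mem ⟨algebraMap A B a, rfl⟩ hb }
  have hII : I ≤ I' := hIs
  by_contra hs
  have h1 : (1 : A) ∉ I' := fun h => hs (by simpa [I'] using h)
  obtain ⟨p, hp, hle⟩ := exists_le_isAssociatedPrime_of_isNoetherianRing A
    (Ideal.Quotient.mk I' 1) (by rwa [Ne, Ideal.Quotient.eq_zero_iff_mem])
  obtain ⟨hpp, r', hr⟩ := isAssociatedPrime_iff.1 hp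
  obtain ⟨r, rfl⟩ := Ideal.Quotient.mk_surjective r'
  have hmem : ∀ y, y * r ∈ I' ↔ y ∈ p := fun y => by
    rw [hr, Submodule.mem_colon_singleton, Submodule.mem_bot, ← Ideal.Quotient.eq_zero_iff_mem]
    rfl
  have hpZ : (⟨p, hpp⟩ : PrimeSpectrum A) ∈ Z := hI _ fun y hy => (hmem y).1
    (I'.mul_mem_right r (hII hy))
  obtain ⟨x, hxp, hx⟩ := exists_regular_mem hd hZup hpZ
  have hxB : ∀ b : B, x • b = 0 → b = 0 := fun b hb => by
    by_contra hne
    obtain ⟨φ, hφ⟩ := exists_dual_ne_zero (A := A) hne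
    exact hφ (hx _ (by rw [← smul_eq_mul, ← map_smul, hb, map_zero]))
  have hy : ∀ y ∈ p, ∃ b, ρ b = σ y * (σ r * s) := fun y hy => by
    obtain ⟨b, hb⟩ := (hmem y).2 hy
    exact ⟨b, by rw [hb, map_mul, mul_assoc]⟩
  choose g hg using hy
  have hcross : ∀ y (hy : y ∈ p), y • g x hxp = x • g y hy := fun y hy => hρ (by
    rw [Algebra.smul_def, Algebra.smul_def, map_mul, map_mul, hg, hg]
    show σ y * _ = σ x * _
    ring)
  by_cases hdiv : ∀ φ : B →ₗ[A] A, φ (g x hxp) ∈ Ideal.span {x}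
  · obtain ⟨c, hc⟩ := mem_smul_of_forall_dual hdiv
    have hz : σ r * s - ρ c = 0 := hsep _ p (fun q hq => hZup _ _ hpZ hq) fun y hy => by
      have h : g y hy = y • c := by
        refine sub_eq_zero.1 (hxB _ ?_)
        rw [smul_sub, ← hcross y hy, hc, smul_comm, sub_self]
      rw [mul_sub]
      show σ y * (σ r * s) - σ y * ρ c = 0
      rw [← hg y hy, h, Algebra.smul_def, map_mul]
      exact sub_self _
    exact hpp.ne_top ((Ideal.eq_top_iff_one _).2 ((hmem 1).1 (by
      rw [one_mul]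
      exact ⟨c, (sub_eq_zero.1 hz).symm⟩)))
  · push Not at hdiv
    obtain ⟨φ, hφ⟩ := hdiv
    obtain ⟨q, hq, hqle⟩ := exists_le_isAssociatedPrime_of_isNoetherianRing A
      (Ideal.Quotient.mk (Ideal.span {x}) (φ (g x hxp)))
      (by rwa [Ne, Ideal.Quotient.eq_zero_iff_mem])
    obtain ⟨hqp, c', hc'⟩ := isAssociatedPrime_iff.1 hq
    obtain ⟨c, rfl⟩ := Ideal.Quotient.mk_surjective c'
    have hpq : p ≤ q := fun y hy => hqle (by
      rw [Submodule.mem_colon_singleton, Submodule.mem_bot]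
      show Ideal.Quotient.mk (Ideal.span {x}) (y * φ (g x hxp)) = 0
      rw [Ideal.Quotient.eq_zero_iff_mem, ← smul_eq_mul, ← map_smul, hcross y hy, map_smul, smul_eq_mul]
      exact Ideal.mul_mem_right _ _ (Ideal.subset_span rfl))
    refine colon_ne_of_mem hd (p := ⟨q, hqp⟩) (hZup _ _ hpZ hpq) hx (c := c) fun y => ?_
    show y * c ∈ Ideal.span {x} ↔ y ∈ q
    rw [hc', Submodule.mem_colon_singleton, Submodule.mem_bot, ← Ideal.Quotient.eq_zero_iff_mem]
    rfl

end Groth.L13.HartogsFF
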