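import Groth.Agent.L13.HartogsFF.Scheme
import Mathlib.AlgebraicGeometry.Gluing

/-!
Extension of morphisms between finite flat schemes across a closed set of depth at least two.
-/

universe u

open CategoryTheory AlgebraicGeometry TopologicalSpace Opposite Limits

namespace Groth.L13.HartogsFF

theorem exists_unique_lift {P Q T : Scheme.{u}} [IsAffine T] (j : P ⟶ Q)
    (hj : Function.Bijective j.appTop) (ψ : P ⟶ T) : ∃! φ : Q ⟶ T, j ≫ φ = ψ := by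
  let e := RingEquiv.ofBijective j.appTop.hom hj
  let α : Γ(T, ⊤) ⟶ Γ(Q, ⊤) := ψ.appTop ≫ CommRingCat.ofHom e.symm.toRingHom
  have hα : α ≫ j.appTop = ψ.appTop := by
    ext x
    exact e.apply_symm_apply _
  have hiso : T.isoSpec.inv.appTop ≫ (Scheme.ΓSpecIso Γ(T, ⊤)).hom = 𝟙 _ := by
    rw [← Scheme.toSpecΓ_appTop, ← Scheme.isoSpec_hom, ← Scheme.Hom.comp_appTop, Iso.hom_inv_id]
    rfl
  have h : (Q.toSpecΓ ≫ Spec.map α ≫ T.isoSpec.inv).appTop = α := by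
    simp only [Scheme.Hom.comp_appTop, Category.assoc, Scheme.toSpecΓ_appTop,
      Scheme.ΓSpecIso_naturality, reassoc_of% hiso]
  refine ⟨Q.toSpecΓ ≫ Spec.map α ≫ T.isoSpec.inv, ?_, fun φ hφ => ?_⟩
  · apply ext_of_isAffine
    rw [Scheme.Hom.comp_appTop, h, hα]
  · apply ext_of_isAffine
    rw [h]
    ext x
    refine hj.1 ?_
    rw [show j.appTop (α x) = ψ.appTop x from congrArg (fun r => r.hom x) hα, ← hφ]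
    rfl

variable {S G G₂ : Scheme.{u}} [IsNoetherian S] (f : G ⟶ S) [IsFinite f] [Flat f]
  (f₂ : G₂ ⟶ S) [IsFinite f₂] (U : S.Opens)

/-- The inclusion of the preimage of `V ⊓ U` into the preimage of `V`. -/
noncomputable abbrev incl (V : S.Opens) :
    ((f ⁻¹ᵁ (V ⊓ U) : G.Opens) : Scheme.{u}) ⟶ ((f ⁻¹ᵁ V : G.Opens) : Scheme.{u}) :=
  G.homOfLE (f.preimage_mono (inf_le_left : V ⊓ U ≤ V))

theorem incl_appTop_bijective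
    (hU : ∀ s : S, s ∉ U → (2 : ℕ∞) ≤ LocCoh.depth (S.presheaf.stalk s) (S.presheaf.stalk s))
    {V : S.Opens} (hV : IsAffineOpen V) : Function.Bijective (incl f U V).appTop := by
  have h : (incl f U V).appTop = (f ⁻¹ᵁ V).topIso.hom ≫
      G.presheaf.map (homOfLE (f.preimage_mono (inf_le_left : V ⊓ U ≤ V))).op ≫
        (f ⁻¹ᵁ (V ⊓ U)).topIso.inv := by
    rw [incl, ← Scheme.Hom.resLE_id]
    refine (Scheme.Hom.resLE_app_top (𝟙 G : G ⟶ G) _).trans ?_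
    congr 2
  rw [h]
  exact ((ConcreteCategory.bijective_of_isIso (f ⁻¹ᵁ (V ⊓ U)).topIso.inv).comp
    (res_bijective f U hU hV)).comp (ConcreteCategory.bijective_of_isIso (f ⁻¹ᵁ V).topIso.hom)

/-- Over an affine open, morphisms over `S` are determined on the preimage of `U`. -/
theorem existsUnique_affine
    (hU : ∀ s : S, s ∉ U → (2 : ℕ∞) ≤ LocCoh.depth (S.presheaf.stalk s) (S.presheaf.stalk s))
    {V : S.Opens} (hV : IsAffineOpen V) (ψ : ((f ⁻¹ᵁ (V ⊓ U) : G.Opens) : Scheme.{u}) ⟶ G₂)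
    (hψ : ψ ≫ f₂ = (f ⁻¹ᵁ (V ⊓ U)).ι ≫ f) :
    ∃! φ : ((f ⁻¹ᵁ V : G.Opens) : Scheme.{u}) ⟶ G₂,
      φ ≫ f₂ = (f ⁻¹ᵁ V).ι ≫ f ∧ incl f U V ≫ φ = ψ := by
  haveI : IsAffine ((f₂ ⁻¹ᵁ V : G₂.Opens) : Scheme.{u}) := hV.preimage f₂
  haveI : IsAffine (V : Scheme.{u}) := hV
  have hbij := incl_appTop_bijective f U hU hV
  have hrange : ∀ {P : Scheme.{u}} (a : P ⟶ G₂) (b : P ⟶ ((f ⁻¹ᵁ V : G.Opens) : Scheme.{u})),
      a ≫ f₂ = b ≫ (f ⁻¹ᵁ V).ι ≫ f → Set.range a ⊆ Set.range (f₂ ⁻¹ᵁ V).ι := by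
    intro P a b hab
    rintro _ ⟨z, rfl⟩
    rw [Scheme.Opens.range_ι]
    show f₂ (a z) ∈ V
    rw [show f₂ (a z) = f ((f ⁻¹ᵁ V).ι (b z)) from congrArg (fun r => r z) hab]
    exact (b z).2
  have hψ' : ψ ≫ f₂ = incl f U V ≫ (f ⁻¹ᵁ V).ι ≫ f := by
    rw [hψ, incl, Scheme.homOfLE_ι_assoc]
  obtain ⟨φ, hφ, huniq⟩ := exists_unique_lift (incl f U V) hbij
    (IsOpenImmersion.lift (f₂ ⁻¹ᵁ V).ι ψ (hrange ψ _ hψ'))
  have hover : (φ ≫ (f₂ ⁻¹ᵁ V).ι) ≫ f₂ = (f ⁻¹ᵁ V).ι ≫ f := by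
    have h : φ ≫ f₂ ∣_ V = f ∣_ V := by
      obtain ⟨χ, -, hχ⟩ := exists_unique_lift (incl f U V) hbij (incl f U V ≫ f ∣_ V)
      refine (hχ _ ?_).trans (hχ _ rfl).symm
      show incl f U V ≫ φ ≫ f₂ ∣_ V = _
      rw [← cancel_mono V.ι]
      simp only [Category.assoc, morphismRestrict_ι]
      rw [← Category.assoc, hφ, IsOpenImmersion.lift_fac_assoc, hψ']
    have := congrArg (· ≫ V.ι) h
    simpa only [Category.assoc, morphismRestrict_ι] using this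
  refine ⟨φ ≫ (f₂ ⁻¹ᵁ V).ι, ⟨hover, ?_⟩, fun φ' ⟨h1, h2⟩ => ?_⟩
  · rw [← Category.assoc, hφ, IsOpenImmersion.lift_fac]
  · have hr : Set.range φ' ⊆ Set.range (f₂ ⁻¹ᵁ V).ι := hrange φ' (𝟙 _) (by rw [h1, Category.id_comp])
    rw [← huniq (IsOpenImmersion.lift (f₂ ⁻¹ᵁ V).ι φ' hr) ?_, IsOpenImmersion.lift_fac]
    show incl f U V ≫ _ = _
    rw [← cancel_mono (f₂ ⁻¹ᵁ V).ι, Category.assoc, IsOpenImmersion.lift_fac,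
      IsOpenImmersion.lift_fac, h2]

/-- Morphisms over `S` out of the preimage of any open are determined on the preimage of `U`. -/
theorem hom_ext
    (hU : ∀ s : S, s ∉ U → (2 : ℕ∞) ≤ LocCoh.depth (S.presheaf.stalk s) (S.presheaf.stalk s))
    {W : S.Opens} (a b : ((f ⁻¹ᵁ W : G.Opens) : Scheme.{u}) ⟶ G₂)
    (ha : a ≫ f₂ = (f ⁻¹ᵁ W).ι ≫ f) (hb : b ≫ f₂ = (f ⁻¹ᵁ W).ι ≫ f)
    (h : incl f U W ≫ a = incl f U W ≫ b) : a = b := by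
  refine Scheme.hom_ext_of_forall _ _ fun x => ?_
  obtain ⟨_, ⟨V, hV, rfl⟩, hxV, hVW⟩ :=
    S.isBasis_affineOpens.exists_subset_of_mem_open (show f x.1 ∈ W from x.2) W.2
  change S.Opens at V
  change V ≤ W at hVW
  refine ⟨(f ⁻¹ᵁ W).ι ⁻¹ᵁ (f ⁻¹ᵁ V), hxV, ?_⟩
  have hle : f ⁻¹ᵁ V ≤ f ⁻¹ᵁ W := f.preimage_mono hVW
  have hle' : f ⁻¹ᵁ (V ⊓ U) ≤ f ⁻¹ᵁ (W ⊓ U) := f.preimage_mono (inf_le_inf_right U hVW)
  have hV' : G.homOfLE hle ≫ a = G.homOfLE hle ≫ b := by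
    have hsq : incl f U V ≫ G.homOfLE hle = G.homOfLE hle' ≫ incl f U W := by
      simp [incl, Scheme.homOfLE_homOfLE]
    refine (existsUnique_affine f f₂ U hU hV (incl f U V ≫ G.homOfLE hle ≫ a) ?_).unique
      ⟨?_, rfl⟩ ⟨?_, ?_⟩
    · rw [Category.assoc, Category.assoc, ha, Scheme.homOfLE_ι_assoc, incl,
        Scheme.homOfLE_ι_assoc]
    · rw [Category.assoc, ha, Scheme.homOfLE_ι_assoc]
    · rw [Category.assoc, hb, Scheme.homOfLE_ι_assoc]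
    · rw [reassoc_of% hsq, reassoc_of% hsq, h]
  have hr : Set.range (((f ⁻¹ᵁ W).ι ⁻¹ᵁ (f ⁻¹ᵁ V)).ι ≫ (f ⁻¹ᵁ W).ι) ⊆ Set.range (f ⁻¹ᵁ V).ι := by
    rintro _ ⟨z, rfl⟩
    rw [Scheme.Opens.range_ι]
    exact z.2
  have hfac : ((f ⁻¹ᵁ W).ι ⁻¹ᵁ (f ⁻¹ᵁ V)).ι =
      IsOpenImmersion.lift (f ⁻¹ᵁ V).ι (((f ⁻¹ᵁ W).ι ⁻¹ᵁ (f ⁻¹ᵁ V)).ι ≫ (f ⁻¹ᵁ W).ι) hr ≫
        G.homOfLE hle := by
    rw [← cancel_mono (f ⁻¹ᵁ W).ι, Category.assoc, Scheme.homOfLE_ι, IsOpenImmersion.lift_fac]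
  rw [hfac, Category.assoc, Category.assoc, hV']

theorem existsUnique_extension
    (hU : ∀ s : S, s ∉ U → (2 : ℕ∞) ≤ LocCoh.depth (S.presheaf.stalk s) (S.presheaf.stalk s))
    (φU : ((f ⁻¹ᵁ U : G.Opens) : Scheme.{u}) ⟶ G₂) (hφU : φU ≫ f₂ = (f ⁻¹ᵁ U).ι ≫ f) :
    ∃! φ : G ⟶ G₂, φ ≫ f₂ = f ∧ (f ⁻¹ᵁ U).ι ≫ φ = φU := by
  let ψ : ∀ V : S.Opens, ((f ⁻¹ᵁ (V ⊓ U) : G.Opens) : Scheme.{u}) ⟶ G₂ := fun V =>
    G.homOfLE (f.preimage_mono (inf_le_right : V ⊓ U ≤ U)) ≫ φU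
  have hψ : ∀ V, ψ V ≫ f₂ = (f ⁻¹ᵁ (V ⊓ U)).ι ≫ f := fun V => by
    rw [Category.assoc, hφU, Scheme.homOfLE_ι_assoc]
  have hex : ∀ V : S.affineOpens, ∃ φ : ((f ⁻¹ᵁ V.1 : G.Opens) : Scheme.{u}) ⟶ G₂,
      φ ≫ f₂ = (f ⁻¹ᵁ V.1).ι ≫ f ∧ incl f U V.1 ≫ φ = ψ V.1 :=
    fun V => (existsUnique_affine f f₂ U hU V.2 (ψ V.1) (hψ V.1)).exists
  choose φ hφ1 hφ2 using hex
  have hcov : IsOpenCover (fun V : S.affineOpens => f ⁻¹ᵁ V.1) := by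
    refine top_le_iff.1 fun x _ => ?_
    obtain ⟨_, ⟨V, hV, rfl⟩, hxV, -⟩ :=
      S.isBasis_affineOpens.exists_subset_of_mem_open (Set.mem_univ (f x)) isOpen_univ
    exact Opens.mem_iSup.2 ⟨⟨V, hV⟩, hxV⟩
  let 𝒰 := G.openCoverOfIsOpenCover _ hcov
  have hcompat : ∀ i j, pullback.fst (𝒰.f i) (𝒰.f j) ≫ φ i = pullback.snd _ _ ≫ φ j := by
    intro i j
    have hi : f ⁻¹ᵁ (i.1 ⊓ j.1) ≤ f ⁻¹ᵁ i.1 := f.preimage_mono inf_le_left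
    have hj : f ⁻¹ᵁ (i.1 ⊓ j.1) ≤ f ⁻¹ᵁ j.1 := f.preimage_mono inf_le_right
    have hij : G.homOfLE hi ≫ φ i = G.homOfLE hj ≫ φ j := by
      refine hom_ext f f₂ U hU (W := i.1 ⊓ j.1) _ _ ?_ ?_ ?_
      · rw [Category.assoc]; exact (congrArg (G.homOfLE hi ≫ ·) (hφ1 i)).trans (G.homOfLE_ι_assoc hi f)
      · rw [Category.assoc]; exact (congrArg (G.homOfLE hj ≫ ·) (hφ1 j)).trans (G.homOfLE_ι_assoc hj f)
      · have hs : ∀ (k : S.affineOpens) (hk : i.1 ⊓ j.1 ≤ k.1),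
            incl f U (i.1 ⊓ j.1) ≫ G.homOfLE (f.preimage_mono hk) ≫ φ k =
              G.homOfLE (f.preimage_mono (inf_le_right : i.1 ⊓ j.1 ⊓ U ≤ U)) ≫ φU := by
          intro k hk
          have hsq : incl f U (i.1 ⊓ j.1) ≫ G.homOfLE (f.preimage_mono hk) =
              G.homOfLE (f.preimage_mono (inf_le_inf_right U hk)) ≫ incl f U k.1 := by
            simp [incl, Scheme.homOfLE_homOfLE]
          rw [reassoc_of% hsq, hφ2 k]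
          simp only [ψ, Scheme.homOfLE_homOfLE_assoc]
        rw [hs i inf_le_left, hs j inf_le_right]
    have hr : Set.range (pullback.fst (𝒰.f i) (𝒰.f j) ≫ (f ⁻¹ᵁ i.1).ι) ⊆
        Set.range (f ⁻¹ᵁ (i.1 ⊓ j.1)).ι := by
      rintro _ ⟨z, rfl⟩
      rw [Scheme.Opens.range_ι]
      refine ⟨(pullback.fst (𝒰.f i) (𝒰.f j) z).2, ?_⟩
      show f ((pullback.fst (𝒰.f i) (𝒰.f j) ≫ 𝒰.f i) z) ∈ j.1
      rw [pullback.condition]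
      exact (pullback.snd (𝒰.f i) (𝒰.f j) z).2
    let t := IsOpenImmersion.lift (f ⁻¹ᵁ (i.1 ⊓ j.1)).ι
      (pullback.fst (𝒰.f i) (𝒰.f j) ≫ (f ⁻¹ᵁ i.1).ι) hr
    have ht1 : t ≫ G.homOfLE hi = pullback.fst (𝒰.f i) (𝒰.f j) := by
      refine (cancel_mono (f ⁻¹ᵁ i.1).ι).1 ?_
      rw [Category.assoc, Scheme.homOfLE_ι, IsOpenImmersion.lift_fac]
      rfl
    have ht2 : t ≫ G.homOfLE hj = pullback.snd (𝒰.f i) (𝒰.f j) := by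
      refine (cancel_mono (f ⁻¹ᵁ j.1).ι).1 ?_
      rw [Category.assoc, Scheme.homOfLE_ι, IsOpenImmersion.lift_fac]
      exact pullback.condition
    refine (congrArg (fun r => r ≫ φ i) ht1.symm).trans (Eq.trans ?_ (congrArg (fun r => r ≫ φ j) ht2))
    exact (Category.assoc t (G.homOfLE hi) (φ i)).trans ((congrArg (t ≫ ·) hij).trans (Category.assoc t (G.homOfLE hj) (φ j)).symm)
  refine ⟨𝒰.glueMorphisms φ hcompat, ⟨?_, ?_⟩, fun φ' ⟨h1, h2⟩ => ?_⟩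
  · refine 𝒰.hom_ext _ _ fun i => ?_
    exact (congrArg (fun r => r ≫ f₂) (Scheme.Cover.ι_glueMorphisms 𝒰 φ hcompat i)).trans (hφ1 i) |> (Category.assoc _ _ _).symm.trans
  · refine Scheme.hom_ext_of_forall _ _ fun x => ?_
    obtain ⟨_, ⟨V, hV, rfl⟩, hxV, -⟩ :=
      S.isBasis_affineOpens.exists_subset_of_mem_open (Set.mem_univ (f x.1)) isOpen_univ
    change S.Opens at V
    refine ⟨(f ⁻¹ᵁ U).ι ⁻¹ᵁ (f ⁻¹ᵁ V), hxV, ?_⟩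
    have hr : Set.range (((f ⁻¹ᵁ U).ι ⁻¹ᵁ (f ⁻¹ᵁ V)).ι ≫ (f ⁻¹ᵁ U).ι) ⊆
        Set.range (f ⁻¹ᵁ (V ⊓ U)).ι := by
      rintro _ ⟨z, rfl⟩
      rw [Scheme.Opens.range_ι]
      exact ⟨z.2, z.1.2⟩
    let t := IsOpenImmersion.lift (f ⁻¹ᵁ (V ⊓ U)).ι
      (((f ⁻¹ᵁ U).ι ⁻¹ᵁ (f ⁻¹ᵁ V)).ι ≫ (f ⁻¹ᵁ U).ι) hr
    have ht : t ≫ G.homOfLE (f.preimage_mono (inf_le_right : V ⊓ U ≤ U)) =
        ((f ⁻¹ᵁ U).ι ⁻¹ᵁ (f ⁻¹ᵁ V)).ι := by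
      rw [← cancel_mono (f ⁻¹ᵁ U).ι, Category.assoc, Scheme.homOfLE_ι, IsOpenImmersion.lift_fac]
    rw [← ht, Category.assoc, Category.assoc]
    congr 1
    refine Eq.trans ?_ (hφ2 ⟨V, hV⟩)
    rw [← 𝒰.ι_glueMorphisms φ hcompat ⟨V, hV⟩]
    show _ = incl f U V ≫ (f ⁻¹ᵁ V).ι ≫ _
    rw [incl, Scheme.homOfLE_ι_assoc, Scheme.homOfLE_ι_assoc]
  · refine 𝒰.hom_ext _ _ fun i => ?_
    refine Eq.trans ?_ (Scheme.Cover.ι_glueMorphisms 𝒰 φ hcompat i).symm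
    refine (existsUnique_affine f f₂ U hU i.2 (ψ i.1) (hψ i.1)).unique ⟨?_, ?_⟩ ⟨hφ1 i, hφ2 i⟩
    · show ((f ⁻¹ᵁ i.1).ι ≫ φ') ≫ f₂ = _
      rw [Category.assoc, h1]
    · show incl f U i.1 ≫ (f ⁻¹ᵁ i.1).ι ≫ φ' = _
      rw [incl, Scheme.homOfLE_ι_assoc]
      show _ = G.homOfLE _ ≫ φU
      rw [← h2, Scheme.homOfLE_ι_assoc]

end Groth.L13.HartogsFF
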